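import Groth.Agent.GrpSchLib.HopfFlat
import Mathlib.RingTheory.Bialgebra.MonoidAlgebra
import Mathlib.RingTheory.Coalgebra.GroupLike
import Mathlib.GroupTheory.Finiteness

/-!
# The group-like units of a finitely generated commutative Hopf algebra form a finitely generated group
-/

set_option autoImplicit false
universe u

open TensorProduct

namespace Groth.Agent.CharExtLib

variable {k : Type u} [Field k]

/-- In the group algebra the augmentation ideal of a subgroup detects it. -/
theorem mem_of_single_sub_one_mem {M : Type u} [CommGroup M] (H : Subgroup M) {g : M}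
    (hg : MonoidAlgebra.single g (1 : k) - 1 ∈
      Ideal.span ((fun g : M => MonoidAlgebra.single g (1 : k) - 1) '' H)) : g ∈ H := by
  let π : MonoidAlgebra k M →+* MonoidAlgebra k (M ⧸ H) :=
    MonoidAlgebra.mapDomainRingHom k (QuotientGroup.mk' H)
  have hπ : ∀ h : M, π (MonoidAlgebra.single h 1) = MonoidAlgebra.single (h : M ⧸ H) 1 := fun h => by
    simp [π]
  have h0 : Ideal.span ((fun g : M => MonoidAlgebra.single g (1 : k) - 1) '' H) ≤ RingHom.ker π := by
    rw [Ideal.span_le]
    rintro _ ⟨h, hh, rfl⟩
    rw [SetLike.mem_coe, RingHom.mem_ker, map_sub, map_one, hπ, (QuotientGroup.eq_one_iff h).2 hh,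
      MonoidAlgebra.one_def, sub_self]
  have h1 := h0 hg
  rw [RingHom.mem_ker, map_sub, map_one, sub_eq_zero, hπ, MonoidAlgebra.one_def] at h1
  by_contra hne
  have h2 : (g : M ⧸ H) ≠ 1 := fun e => hne ((QuotientGroup.eq_one_iff g).1 e)
  exact h2 (MonoidAlgebra.single_left_injective (one_ne_zero (α := k)) h1)

variable (k) in
/-- The group-like units. -/
def grpUnits (A : Type u) [CommRing A] [Bialgebra k A] : Subgroup Aˣ where
  carrier := {u | IsGroupLikeElem k (u : A)}
  one_mem' := ⟨map_one (Bialgebra.counitAlgHom k A), map_one (Bialgebra.comulAlgHom k A)⟩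
  mul_mem' := fun {u v} hu hv => hu.mul hv
  inv_mem' := fun {u} hu => by
    refine ⟨?_, ?_⟩
    · have h := congrArg (Bialgebra.counitAlgHom k A) u.mul_inv
      rw [map_mul, map_one, Bialgebra.counitAlgHom_apply, Bialgebra.counitAlgHom_apply, hu.counit_eq_one,
        one_mul] at h
      exact h
    · have h := congrArg (Bialgebra.comulAlgHom k A) u.mul_inv
      rw [map_mul, map_one] at h
      simp only [Bialgebra.comulAlgHom_apply, hu.comul_eq_tmul_self] at h
      refine left_inv_eq_right_inv ((mul_comm _ _).trans h) ?_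
      rw [Algebra.TensorProduct.tmul_mul_tmul, Units.mul_inv, ← Algebra.TensorProduct.one_def]

theorem mem_grpUnits {A : Type u} [CommRing A] [Bialgebra k A] {u : Aˣ} :
    u ∈ grpUnits k A ↔ IsGroupLikeElem k (u : A) := Iff.rfl

/-- Group-like elements of a Hopf algebra are units. -/
theorem isUnit_of_groupLike {A : Type u} [CommRing A] [HopfAlgebra k A] {a : A} (ha : IsGroupLikeElem k a) :
    IsUnit a := by
  refine IsUnit.of_mul_eq_one (HopfAlgebra.antipode k a) ?_
  have h := HopfAlgebra.mul_antipode_lTensor_comul_apply (R := k) a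
  rw [ha.comul_eq_tmul_self, ha.counit_eq_one] at h
  simpa using h

theorem fg_grpUnits (A : Type u) [CommRing A] [HopfAlgebra k A] [Algebra.FiniteType k A] :
    Group.FG (grpUnits k A) := by
  classical
  haveI : IsNoetherianRing A := Algebra.FiniteType.isNoetherianRing k A
  let v : grpUnits k A →* A := (Units.coeHom A).comp (grpUnits k A).subtype
  let JA : Subgroup (grpUnits k A) → Ideal A := fun H => Ideal.span ((fun g => v g - 1) '' H)
  have hstrict : ∀ S : Finset (grpUnits k A), ∀ H : Subgroup (grpUnits k A),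
      H < Subgroup.closure (S : Set (grpUnits k A)) → JA H ≠ JA (Subgroup.closure (S : Set _)) := by
    intro S H hH heq
    let K := Subgroup.closure (S : Set (grpUnits k A))
    haveI : Group.FG K := Group.closure_finset_fg S
    haveI : Monoid.FG K := Group.fg_iff_monoid_fg.1 inferInstance
    let vK : K →* A := v.comp K.subtype
    let φ : MonoidAlgebra k K →ₐc[k] A :=
      BialgHom.ofAlgHom (MonoidAlgebra.lift k A _ vK)
        (MonoidAlgebra.algHom_ext (fun z => by simp [vK, v, (mem_grpUnits.1 z.1.2).counit_eq_one]) (by ext))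
        (MonoidAlgebra.algHom_ext (fun z => by simp [vK, v, (mem_grpUnits.1 z.1.2).comul_eq_tmul_self]) (by ext))
    have hli : LinearIndependent k (fun z : K => vK z) := by
      have h := (linearIndepOn_isGroupLikeElem (R := k) (A := A)).linearIndependent
      exact h.comp (fun z : K => ⟨vK z, z.1.2⟩) fun z w e =>
        Subtype.ext (Subtype.ext (Units.ext (congrArg Subtype.val e)))
    have hinj : Function.Injective φ := by
      show Function.Injective (MonoidAlgebra.lift k A _ vK)
      refine (injective_iff_map_eq_zero _).2 fun x hx => ?_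
      rw [MonoidAlgebra.lift_apply] at hx
      exact MonoidAlgebra.coeff_eq_zero.1 (linearIndependent_iff.1 hli x.coeff
        (by rw [Finsupp.linearCombination_apply]; exact hx))
    have hff := GrpSchLib.HopfFlat.faithfullyFlat φ hinj
    algebraize [(φ : MonoidAlgebra k K →ₐ[k] A).toRingHom]
    haveI : Module.FaithfullyFlat (MonoidAlgebra k K) A := hff
    obtain ⟨g, hgK, hgH⟩ := Set.exists_of_ssubset hH
    refine hgH (mem_of_single_sub_one_mem (k := k) (H.subgroupOf K) (g := ⟨g, hgK⟩) ?_)
    have hv : ∀ z : K, algebraMap (MonoidAlgebra k K) A (MonoidAlgebra.single z 1 - 1) = v z - 1 := fun z => by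
      rw [map_sub, map_one]
      show MonoidAlgebra.lift k A _ vK (MonoidAlgebra.single z 1) - 1 = _
      simp [vK]
    rw [← Ideal.comap_map_eq_self_of_faithfullyFlat (B := A)
      (Ideal.span ((fun g : K => MonoidAlgebra.single g (1 : k) - 1) '' (H.subgroupOf K))),
      Ideal.mem_comap, Ideal.map_span, hv, Set.image_image]
    refine Ideal.span_mono ?_ (heq.symm.le (Ideal.subset_span ⟨g, hgK, rfl⟩))
    rintro _ ⟨h, hh, rfl⟩
    exact ⟨⟨h, hH.le hh⟩, hh, hv _⟩
  obtain ⟨_, ⟨S, rfl⟩, hmax⟩ := (IsWellFounded.wf (r := ((· > ·) : Ideal A → _ → Prop))).has_min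
    (Set.range fun S : Finset (grpUnits k A) => JA (Subgroup.closure (S : Set _))) ⟨_, ∅, rfl⟩
  refine ⟨⟨S, top_le_iff.1 fun g _ => ?_⟩⟩
  by_contra hg
  have hlt : Subgroup.closure (S : Set (grpUnits k A)) < Subgroup.closure ((insert g S : Finset _) : Set _) :=
    lt_of_le_of_ne (Subgroup.closure_mono (by simp)) fun h => hg (h ▸ Subgroup.subset_closure (by simp))
  exact hmax _ ⟨insert g S, rfl⟩ (lt_of_le_of_ne (Ideal.span_mono (Set.image_mono hlt.le)) (hstrict _ _ hlt))

end Groth.Agent.CharExtLib
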