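import Groth.Agent.CharExtLib.Lift
import Groth.Agent.CharExtLib.FG
import Groth.Agent.GrpSchLib.AffineHopf
import Groth.Prelude.Def_CGrpSh2
import Groth.Prelude.Def_GmPts
import Mathlib.AlgebraicGeometry.Morphisms.ClosedImmersion
import Mathlib.AlgebraicGeometry.Morphisms.FiniteType
import Mathlib.GroupTheory.FiniteAbelian.Basic
import Mathlib.RingTheory.Finiteness.Basic

/-!
# Characters of affine commutative group schemes and group-like elements
-/

set_option autoImplicit false
universe u

open CategoryTheory CategoryTheory.Limits MonoidalCategory CartesianMonoidalCategory MonObj AlgebraicGeometry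
open TensorProduct WithConv Opposite
open Groth.Agent.GrpSchLib.AffineHopf

namespace Groth.Agent.CharExtLib

section Affine

variable {k : Type u} [CommRing k] {A : Type u} [CommRing A]

/-- The function of a point of the multiplicative group on the spectrum of an algebra. -/
noncomputable def val [Algebra k A] (t : sp k A ⟶ Red.Gm (Spec (CommRingCat.of k))) : A :=
  (Scheme.ΓSpecIso (CommRingCat.of A)).hom (Red.gmFn t)

theorem val_injective [Algebra k A] :
    Function.Injective (val : (sp k A ⟶ Red.Gm (Spec (CommRingCat.of k))) → A) := fun _ _ h =>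
  GmPts.gmFn_injective ((ConcreteCategory.bijective_of_isIso (Scheme.ΓSpecIso (CommRingCat.of A)).hom).1 h)

theorem val_mul [Algebra k A] (s t : sp k A ⟶ Red.Gm (Spec (CommRingCat.of k))) :
    val (s * t) = val s * val t := by
  simp only [val, GmPts.gmFn_mul]
  exact map_mul (Scheme.ΓSpecIso (CommRingCat.of A)).hom.hom _ _

theorem val_one [Algebra k A] : val (1 : sp k A ⟶ Red.Gm (Spec (CommRingCat.of k))) = 1 := by
  simp only [val, GmPts.gmFn_one]
  exact map_one (Scheme.ΓSpecIso (CommRingCat.of A)).hom.hom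

theorem isUnit_val [Algebra k A] (t : sp k A ⟶ Red.Gm (Spec (CommRingCat.of k))) : IsUnit (val t) :=
  (GmPts.isUnit_gmFn t).map (Scheme.ΓSpecIso (CommRingCat.of A)).hom.hom

theorem exists_val [Algebra k A] (a : Aˣ) : ∃ t : sp k A ⟶ Red.Gm (Spec (CommRingCat.of k)), val t = a := by
  refine ⟨GmPts.ptOfUnit (T := sp k A) (Units.map
    (Scheme.ΓSpecIso (CommRingCat.of A)).inv.hom.toMonoidHom a), ?_⟩
  rw [val, GmPts.gmFn_ptOfUnit]
  exact congr(($((Scheme.ΓSpecIso (CommRingCat.of A)).inv_hom_id)).hom (a : A))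

theorem val_comp [Algebra k A] {B : Type u} [CommRing B] [Algebra k B] (f : A →ₐ[k] B)
    (t : sp k A ⟶ Red.Gm (Spec (CommRingCat.of k))) : val (spMap f ≫ t) = f (val t) := by
  simp only [val, GmPts.gmFn_comp]
  exact congr(($(Scheme.ΓSpecIso_naturality (CommRingCat.ofHom f.toRingHom))).hom (Red.gmFn t))

variable [Bialgebra k A]

/-- The two inclusions identify the spectrum of `A ⊗ A` with the square. -/
theorem isIso_lift_incl : IsIso (CartesianMonoidalCategory.lift
    (spMap (Algebra.TensorProduct.includeLeft : A →ₐ[k] A ⊗[k] A))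
    (spMap (Algebra.TensorProduct.includeRight : A →ₐ[k] A ⊗[k] A))) := by
  set l := CartesianMonoidalCategory.lift
    (spMap (Algebra.TensorProduct.includeLeft : A →ₐ[k] A ⊗[k] A))
    (spMap (Algebra.TensorProduct.includeRight : A →ₐ[k] A ⊗[k] A))
  have h : l.left = (pullbackSpecIso k A A).inv := by
    refine pullback.hom_ext (f := (sp k A).hom) (g := (sp k A).hom) ?_ ?_
    · refine (congrArg CommaMorphism.left (lift_fst (spMap _) (spMap _) : l ≫ fst _ _ = _)).trans ?_
      exact (pullbackSpecIso_inv_fst k A A).symm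
    · refine (congrArg CommaMorphism.left (lift_snd (spMap _) (spMap _) : l ≫ snd _ _ = _)).trans ?_
      exact (pullbackSpecIso_inv_snd k A A).symm
  haveI : IsIso ((Over.forget _).map l) := by
    show IsIso l.left
    rw [h]
    infer_instance
  exact isIso_of_reflects_iso l (Over.forget _)

theorem spMap_mul_incl :
    spMap (Algebra.TensorProduct.includeLeft : A →ₐ[k] A ⊗[k] A) *
      spMap (Algebra.TensorProduct.includeRight : A →ₐ[k] A ⊗[k] A) =
        spMap (Bialgebra.comulAlgHom k A) := by
  rw [spMap_mul]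
  congr 1
  ext a
  rw [AlgHom.convMul_def]
  show Algebra.TensorProduct.lmul' k (Algebra.TensorProduct.map _ _ (Coalgebra.comul (R := k) a)) =
    Coalgebra.comul (R := k) a
  generalize Coalgebra.comul (R := k) a = z
  induction z using TensorProduct.induction_on with
  | zero => simp
  | tmul p q => simp
  | add p q hp hq => simp only [map_add, hp, hq]

theorem isGroupLikeElem_val (χ : sp k A ⟶ Red.Gm (Spec (CommRingCat.of k))) [IsMonHom χ] :
    IsGroupLikeElem k (val χ) := by
  refine ⟨?_, ?_⟩
  · have h1 : spMap ((Algebra.ofId k A).comp (Bialgebra.counitAlgHom k A)) = (1 : sp k A ⟶ sp k A) := by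
      rw [spMap_eq_mapMulEquiv, ← map_one (Spec.mapMulEquiv (R := k) (S := A) (T := A))]
      rfl
    have h2 := congrArg (fun t => val (t ≫ χ)) h1
    simp only [val_comp, MonObj.one_comp, val_one] at h2
    have h3 := congrArg (Coalgebra.counit (R := k)) h2
    simpa using h3
  · have h := congrArg (fun t => val (t ≫ χ)) (spMap_mul_incl (k := k) (A := A))
    simp only [MonObj.mul_comp, val_mul, val_comp] at h
    refine h.symm.trans ?_
    simp

theorem isMonHom_of_groupLike (χ : sp k A ⟶ Red.Gm (Spec (CommRingCat.of k)))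
    (hχ : IsGroupLikeElem k (val χ)) : IsMonHom χ where
  one_hom := by
    let χ' : Spec (CommRingCat.of k) ⟶ (sp k A).left :=
      Spec.map (CommRingCat.ofHom (Bialgebra.counitAlgHom k A).toRingHom)
    apply GmPts.gmFn_injective
    show Red.gmFn (η[sp k A] ≫ χ) = Red.gmFn η[Red.Gm (Spec (CommRingCat.of k))]
    rw [show η[Red.Gm (Spec (CommRingCat.of k))] = (1 : 𝟙_ _ ⟶ Red.Gm (Spec (CommRingCat.of k))) by
      rw [Hom.one_def, toUnit_unique (toUnit _) (𝟙 _), Category.id_comp],
      GmPts.gmFn_one, GmPts.gmFn_comp]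
    have e : η[sp k A].left = χ' := one_spec_asOver_spec_left
    rw [e]
    have h1 : Red.gmFn χ = (Scheme.ΓSpecIso (CommRingCat.of A)).inv (val χ) :=
      (congr(($((Scheme.ΓSpecIso (CommRingCat.of A)).hom_inv_id)).hom (Red.gmFn χ))).symm
    rw [h1]
    refine (congr(($(Scheme.ΓSpecIso_inv_naturality
      (CommRingCat.ofHom (Bialgebra.counitAlgHom k A).toRingHom))).hom (val χ))).symm.trans ?_
    show (Scheme.ΓSpecIso (CommRingCat.of k)).inv.hom (Coalgebra.counit (R := k) (val χ)) = 1
    rw [hχ.counit_eq_one, map_one]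
  mul_hom := by
    haveI := isIso_lift_incl (k := k) (A := A)
    rw [← cancel_epi (CartesianMonoidalCategory.lift
      (spMap (Algebra.TensorProduct.includeLeft : A →ₐ[k] A ⊗[k] A))
      (spMap (Algebra.TensorProduct.includeRight : A →ₐ[k] A ⊗[k] A))), ← Category.assoc,
      lift_map_assoc, ← Hom.mul_def, ← Hom.mul_def, spMap_mul_incl]
    apply val_injective
    rw [val_mul, val_comp, val_comp, val_comp]
    show Coalgebra.comul (R := k) (val χ) = _
    rw [hχ.comul_eq_tmul_self]
    simp

theorem isCocomm_of_comm (h : ∀ (T : Over (Spec (CommRingCat.of k))) (s t : T ⟶ sp k A), s * t = t * s) :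
    Coalgebra.IsCocomm k A := by
  refine ⟨LinearMap.ext fun a => ?_⟩
  have e := h _ (spMap (Algebra.TensorProduct.includeRight : A →ₐ[k] A ⊗[k] A))
    (spMap (Algebra.TensorProduct.includeLeft : A →ₐ[k] A ⊗[k] A))
  rw [spMap_mul_incl, spMap_mul] at e
  have e2 := congr(($(spMap_injective e)) a)
  rw [AlgHom.convMul_def] at e2
  refine Eq.trans ?_ e2
  show TensorProduct.comm k A A (Coalgebra.comul (R := k) a) =
    Algebra.TensorProduct.lmul' k (Algebra.TensorProduct.map _ _ (Coalgebra.comul (R := k) a))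
  generalize Coalgebra.comul (R := k) a = z
  induction z using TensorProduct.induction_on with
  | zero => simp
  | tmul p q => simp
  | add p q hp hq => simp only [map_add, hp, hq]

end Affine

section Grp

variable {k : Type u} [Field k] (G : Over (Spec (CommRingCat.of k))) [GrpObj G] [IsCommMonObj G]

/-- A coordinate Hopf algebra of an affine commutative group scheme of finite type. -/
theorem exists_coord [IsAffine G.left] [LocallyOfFiniteType G.hom] :
    ∃ (A : Type u) (_ : CommRing A) (_ : HopfAlgebra k A) (_ : Coalgebra.IsCocomm k A)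
      (_ : Algebra.FiniteType k A) (e : sp k A ≅ G), IsMonHom e.hom ∧ IsMonHom e.inv := by
  obtain ⟨A, _, _, ⟨e⟩⟩ := exists_hopf G
  let e' : sp k A ≅ G := (Grp.forget _).mapIso e
  have h1 : IsMonHom e'.hom := e.hom.hom.isMonHom_hom
  have h2 : IsMonHom e'.inv := e.inv.hom.isMonHom_hom
  haveI := h1
  haveI : Coalgebra.IsCocomm k A := isCocomm_of_comm fun T s t => by
    rw [← cancel_mono e'.hom, MonObj.mul_comp, MonObj.mul_comp]
    exact _root_.mul_comm _ _
  haveI : Algebra.FiniteType k A := by
    haveI : IsIso e'.hom.left := ((Over.forget _).mapIso e').isIso_hom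
    have : LocallyOfFiniteType (sp k A).hom := by
      rw [← Over.w e'.hom]
      infer_instance
    change LocallyOfFiniteType (Spec.map (CommRingCat.ofHom (algebraMap k A))) at this
    rw [HasRingHomProperty.Spec_iff (P := @LocallyOfFiniteType)] at this
    simpa [RingHom.finiteType_algebraMap] using this
  exact ⟨A, inferInstance, inferInstance, inferInstance, inferInstance, e', h1, h2⟩

variable {G}

/-- The homomorphism of group schemes underlying a character of the sheaf of points. -/
noncomputable def hom (φ : CGrpSh.pts Scheme.fppfPrecoverage G ⟶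
    CGrpSh2.Gm Scheme.fppfPrecoverage (Spec (CommRingCat.of k))) :
    G ⟶ Red.Gm (Spec (CommRingCat.of k)) :=
  Additive.toMul (ULift.down (φ.hom.app (op G) (ULift.up (Additive.ofMul (𝟙 G)))))

theorem comp_hom (φ : CGrpSh.pts Scheme.fppfPrecoverage G ⟶
    CGrpSh2.Gm Scheme.fppfPrecoverage (Spec (CommRingCat.of k))) {T : Over (Spec (CommRingCat.of k))}
    (x : T ⟶ G) :
    Additive.toMul (ULift.down (φ.hom.app (op T) (ULift.up (Additive.ofMul x)))) = x ≫ hom φ := by
  have h := congr(($(φ.hom.naturality x.op)) (ULift.up (Additive.ofMul (𝟙 G))))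
  refine Eq.trans ?_ (congrArg (fun z => Additive.toMul (ULift.down z)) h)
  simp only [ConcreteCategory.comp_apply]
  congr 1

theorem isMonHom_hom (φ : CGrpSh.pts Scheme.fppfPrecoverage G ⟶
    CGrpSh2.Gm Scheme.fppfPrecoverage (Spec (CommRingCat.of k))) : IsMonHom (hom φ) := by
  have key : ∀ {T : Over (Spec (CommRingCat.of k))} (x y : T ⟶ G),
      (x * y) ≫ hom φ = (x ≫ hom φ) * (y ≫ hom φ) := fun {T} x y => by
    rw [← comp_hom, ← comp_hom, ← comp_hom]
    exact congrArg (fun z => Additive.toMul (ULift.down z))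
      (map_add (φ.hom.app (op T)).hom (ULift.up (Additive.ofMul x)) (ULift.up (Additive.ofMul y)))
  constructor
  · have h : (1 : 𝟙_ _ ⟶ G) ≫ hom φ = 1 := by
      rw [← comp_hom]
      exact congrArg (fun z => Additive.toMul (ULift.down z)) (map_zero (φ.hom.app (op _)).hom)
    simpa [Hom.one_def, toUnit_unique (toUnit _) (𝟙 _)] using h
  · have h := key (fst G G) (snd G G)
    simp only [Hom.mul_def, ← Category.assoc] at h
    simpa using h

theorem hom_add (φ ψ : CGrpSh.pts Scheme.fppfPrecoverage G ⟶
    CGrpSh2.Gm Scheme.fppfPrecoverage (Spec (CommRingCat.of k))) : hom (φ + ψ) = hom φ * hom ψ := rfl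

theorem hom_zero : hom (0 : CGrpSh.pts Scheme.fppfPrecoverage G ⟶
    CGrpSh2.Gm Scheme.fppfPrecoverage (Spec (CommRingCat.of k))) = 1 := rfl

theorem hom_injective : Function.Injective (hom (k := k) (G := G)) := fun φ ψ h => by
  refine Sheaf.hom_ext (NatTrans.ext (funext fun T => AddCommGrpCat.ext fun a => ?_))
  refine ULift.ext _ _ ?_
  have := (comp_hom φ (T := T.unop) (Additive.toMul (ULift.down a))).trans
    ((congrArg _ h).trans (comp_hom ψ (T := T.unop) (Additive.toMul (ULift.down a))).symm)
  exact congrArg Additive.ofMul this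

theorem hom_ptsMap (χ : G ⟶ Red.Gm (Spec (CommRingCat.of k))) [IsMonHom χ] :
    hom (CGrpSh.ptsMap Scheme.fppfPrecoverage χ) = χ := Category.id_comp χ

theorem hom_comp_ptsMap {H : Over (Spec (CommRingCat.of k))} [GrpObj H] [IsCommMonObj H] (i : H ⟶ G)
    [IsMonHom i] (φ : CGrpSh.pts Scheme.fppfPrecoverage G ⟶
      CGrpSh2.Gm Scheme.fppfPrecoverage (Spec (CommRingCat.of k))) :
    hom (CGrpSh.ptsMap Scheme.fppfPrecoverage i ≫ φ) = i ≫ hom φ := by
  rw [← comp_hom φ i]
  show Additive.toMul (ULift.down (φ.hom.app (op H) (ULift.up (Additive.ofMul (𝟙 H ≫ i))))) = _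
  rw [Category.id_comp]

/-- The characters of an affine commutative group scheme of finite type form a finitely generated
group. -/
theorem fg_characters [IsAffine G.left] [LocallyOfFiniteType G.hom] :
    AddGroup.FG (CGrpSh.pts Scheme.fppfPrecoverage G ⟶
      CGrpSh2.Gm Scheme.fppfPrecoverage (Spec (CommRingCat.of k))) := by
  obtain ⟨A, _, _, _, _, e, he, -⟩ := exists_coord G
  haveI := he
  let F : (CGrpSh.pts Scheme.fppfPrecoverage G ⟶
      CGrpSh2.Gm Scheme.fppfPrecoverage (Spec (CommRingCat.of k))) →+ Additive (grpUnits k A) :=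
    AddMonoidHom.mk' (fun φ => Additive.ofMul ⟨(isUnit_val (e.hom ≫ hom φ)).unit, by
        haveI := isMonHom_hom φ
        exact isGroupLikeElem_val (e.hom ≫ hom φ)⟩) fun φ ψ => by
      refine congrArg Additive.ofMul (Subtype.ext (Units.ext ?_))
      show val (e.hom ≫ hom (φ + ψ)) = val (e.hom ≫ hom φ) * val (e.hom ≫ hom ψ)
      rw [hom_add, MonObj.comp_mul, val_mul]
  have hF : Function.Injective F := fun φ ψ h => by
    refine hom_injective ((cancel_epi e.hom).1 (val_injective ?_))
    exact congrArg (fun z => ((Additive.toMul z : grpUnits k A) : Aˣ).val) h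
  haveI : Group.FG (grpUnits k A) := fg_grpUnits A
  haveI : Module.Finite ℤ (Additive (grpUnits k A)) :=
    Module.Finite.iff_addGroup_fg.2 inferInstance
  exact Module.Finite.iff_addGroup_fg.1 (Module.Finite.of_injective F.toIntLinearMap hF)

/-- For a closed immersion, the coordinate map is surjective, and characters correspond to group-like
elements. -/
theorem exists_restrict_setup {H : Over (Spec (CommRingCat.of k))} [GrpObj H] [IsCommMonObj H]
    [IsAffine H.left] [LocallyOfFiniteType H.hom] [IsAffine G.left] [LocallyOfFiniteType G.hom]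
    (i : H ⟶ G) [IsMonHom i] [IsClosedImmersion i.left] :
    ∃ (A B : Type u) (_ : CommRing A) (_ : CommRing B) (_ : HopfAlgebra k A) (_ : HopfAlgebra k B)
      (_ : Coalgebra.IsCocomm k A) (_ : Coalgebra.IsCocomm k B) (f : A →ₐc[k] B)
      (v : (CGrpSh.pts Scheme.fppfPrecoverage H ⟶
        CGrpSh2.Gm Scheme.fppfPrecoverage (Spec (CommRingCat.of k))) → B),
      Function.Surjective f ∧ Function.Injective v ∧
      (∀ φ ψ, v (φ + ψ) = v φ * v ψ) ∧ v 0 = 1 ∧ (∀ φ, IsGroupLikeElem k (v φ)) ∧
      ∀ a : A, IsGroupLikeElem k a → ∃ ψ : CGrpSh.pts Scheme.fppfPrecoverage G ⟶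
        CGrpSh2.Gm Scheme.fppfPrecoverage (Spec (CommRingCat.of k)),
        v (CGrpSh.ptsMap Scheme.fppfPrecoverage i ≫ ψ) = f a := by
  obtain ⟨A, _, _, _, _, eG, hG1, hG2⟩ := exists_coord G
  obtain ⟨B, _, _, _, _, eH, hH1, hH2⟩ := exists_coord H
  haveI := hG1; haveI := hG2; haveI := hH1; haveI := hH2
  obtain ⟨f, hf⟩ := exists_bialgHom (eH.hom ≫ i ≫ eG.inv)
  have hsurj : Function.Surjective f := by
    haveI : IsIso eH.hom.left := ((Over.forget _).mapIso eH).isIso_hom
    haveI : IsIso eG.inv.left := ((Over.forget _).mapIso eG).isIso_inv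
    haveI : IsClosedImmersion (Spec.map (CommRingCat.ofHom (f : A →ₐ[k] B).toRingHom)) := by
      have : IsClosedImmersion (eH.hom ≫ i ≫ eG.inv).left := by
        simp only [Over.comp_left]
        infer_instance
      rw [hf] at this
      exact this
    have h2 := (IsClosedImmersion.isAffine_surjective_of_isAffine
      (f := Spec.map (CommRingCat.ofHom (f : A →ₐ[k] B).toRingHom))).2
    intro b
    obtain ⟨a, ha⟩ := h2 ((Scheme.ΓSpecIso (CommRingCat.of B)).inv b)
    refine ⟨(Scheme.ΓSpecIso (CommRingCat.of A)).hom a, ?_⟩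
    have h3 := congrArg (Scheme.ΓSpecIso (CommRingCat.of B)).hom ha
    refine Eq.trans ?_ (h3.trans congr(($((Scheme.ΓSpecIso (CommRingCat.of B)).inv_hom_id)).hom b))
    exact (congr(($(Scheme.ΓSpecIso_naturality
      (CommRingCat.ofHom (f : A →ₐ[k] B).toRingHom))).hom a)).symm
  refine ⟨A, B, inferInstance, inferInstance, inferInstance, inferInstance, inferInstance,
    inferInstance, f, fun φ => val (eH.hom ≫ hom φ), hsurj, ?_, ?_, ?_, ?_, ?_⟩
  · exact fun φ ψ h => hom_injective ((cancel_epi eH.hom).1 (val_injective h))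
  · intro φ ψ
    show val (eH.hom ≫ hom (φ + ψ)) = _
    rw [hom_add, MonObj.comp_mul, val_mul]
  · show val (eH.hom ≫ hom 0) = 1
    rw [hom_zero, MonObj.comp_one, val_one]
  · intro φ
    haveI := isMonHom_hom φ
    exact isGroupLikeElem_val _
  · intro a ha
    obtain ⟨t, ht⟩ := exists_val (k := k) (isUnit_of_groupLike ha).unit
    have hta : val t = a := ht
    haveI : IsMonHom t := isMonHom_of_groupLike t (hta.symm ▸ ha)
    refine ⟨CGrpSh.ptsMap Scheme.fppfPrecoverage (eG.inv ≫ t), ?_⟩
    show val (eH.hom ≫ hom _) = f a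
    rw [hom_comp_ptsMap, hom_ptsMap, ← hta, show eH.hom ≫ i ≫ eG.inv ≫ t =
      spMap (f : A →ₐ[k] B) ≫ t by rw [← hf]; simp only [Category.assoc]]
    exact val_comp _ t

end Grp

end Groth.Agent.CharExtLib
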