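import Groth.Agent.ComodLib.Coalg
import Groth.Prelude.Def_ComodSub
import Mathlib.RingTheory.Bialgebra.Hom
import Mathlib.RingTheory.Norm.Defs
import Mathlib.RingTheory.Ideal.GoingUp
import Mathlib.RingTheory.Coalgebra.GroupLike
import Mathlib.RingTheory.TensorProduct.Free
import Mathlib.RingTheory.IntegralClosure.IsIntegralClosure.Basic
import Mathlib.FieldTheory.IsAlgClosed.Basic

/-!
# Lifting group-like elements along surjections of cocommutative Hopf algebras

A group-like element of a quotient of a commutative cocommutative bialgebra over a field lifts after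
a finite field extension; taking norms, a positive power lifts over the field itself.
-/

set_option autoImplicit false
universe u

open TensorProduct WithConv

namespace Groth.Agent.CharExtLib

variable {k : Type u} [Field k]

/-- Every element of a coalgebra lies in a finite-dimensional subcoalgebra. -/
theorem exists_finite_subcoalg {C : Type u} [AddCommGroup C] [Module k C] [Coalgebra k C] (a : C) :
    ∃ D : Submodule k C, Module.Finite k D ∧ a ∈ D ∧ ComodLib.IsSubcoalg k C D := by
  obtain ⟨U, hUf, haU, hU⟩ := ComodLib.exists_finite_subcomod_mem (k := k) (C := C) (V := C) a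
  haveI := hUf
  let cU := ComodSub.Comod.restr (k := k) (A := C) (HopfRep.Comod.regular (k := k) (A := C)) U hU
  letI := cU
  refine ⟨ComodLib.coeffSpace k C U, ComodLib.finite_coeffSpace, ?_, ComodLib.isSubcoalg_coeffSpace⟩
  exact ComodLib.range_le_coeffSpace (V := U) (h := U.subtype)
    (ComodSub.isComodHom_subtype (k := k) (A := C) _ U hU) ⟨⟨a, haU⟩, rfl⟩

section Ev

variable {L : Type u} [CommRing L] [Algebra k L]

/-- Apply a linear form to the first factor. -/
noncomputable def ev {M : Type u} [AddCommGroup M] [Module k M] (φ : M →ₗ[k] k) : M ⊗[k] L →ₗ[k] L :=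
  (TensorProduct.lid k L).toLinearMap ∘ₗ φ.rTensor L

@[simp]
theorem ev_tmul {M : Type u} [AddCommGroup M] [Module k M] (φ : M →ₗ[k] k) (m : M) (l : L) :
    ev φ (m ⊗ₜ[k] l) = φ m • l := by
  simp [ev]

open Classical in
theorem ext_ev {M : Type u} [AddCommGroup M] [Module k M] {ι : Type u} (b : Module.Basis ι k M)
    {y z : M ⊗[k] L} (h : ∀ i, ev (b.coord i) y = ev (b.coord i) z) : y = z := by
  refine (TensorProduct.equivFinsuppOfBasisLeft b).injective (Finsupp.ext fun i => ?_)
  have key : ∀ w : M ⊗[k] L, TensorProduct.equivFinsuppOfBasisLeft b w i = ev (b.coord i) w := fun w => by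
    induction w using TensorProduct.induction_on with
    | zero => simp
    | tmul m l => simp
    | add p q hp hq => simp only [map_add, Finsupp.add_apply, hp, hq]
  rw [key, key]
  exact h i

variable {A : Type u} [CommRing A] [Bialgebra k A]

theorem ev_map_comul (φ ψ : A →ₗ[k] k) (x : A ⊗[k] L) :
    ev (LinearMap.mul' k k ∘ₗ TensorProduct.map φ ψ)
        (Algebra.TensorProduct.map (Bialgebra.comulAlgHom k A) (AlgHom.id k L) x) =
      ev (toConv φ * toConv ψ).ofConv x := by
  induction x using TensorProduct.induction_on with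
  | zero => simp
  | tmul m l => simp [LinearMap.convMul_apply]
  | add p q hp hq => simp only [map_add, hp, hq]

theorem ev_mul_incl (φ ψ : A →ₗ[k] k) (x y : A ⊗[k] L) :
    ev (LinearMap.mul' k k ∘ₗ TensorProduct.map φ ψ)
        (Algebra.TensorProduct.map (Algebra.TensorProduct.includeLeft : A →ₐ[k] A ⊗[k] A) (AlgHom.id k L) x *
          Algebra.TensorProduct.map (Algebra.TensorProduct.includeRight : A →ₐ[k] A ⊗[k] A) (AlgHom.id k L) y) =
      ev φ x * ev ψ y := by
  induction x using TensorProduct.induction_on with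
  | zero => simp
  | add p q hp hq => simp only [map_add, add_mul, hp, hq]
  | tmul a l =>
    induction y using TensorProduct.induction_on with
    | zero => simp
    | add p q hp hq => simp only [map_add, mul_add, hp, hq]
    | tmul b m => simp [smul_mul_assoc, mul_smul_comm, mul_comm (φ a), mul_smul]

end Ev

/-- A group-like element of a quotient lifts to a group-like element over a finite field extension. -/
theorem exists_lift_ext {A B : Type u} [CommRing A] [CommRing B] [Bialgebra k A] [Bialgebra k B]
    [Coalgebra.IsCocomm k A] [Coalgebra.IsCocomm k B] (f : A →ₐc[k] B) (hf : Function.Surjective f)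
    {b : B} (hb : IsGroupLikeElem k b) :
    ∃ (L : Type u) (_ : Field L) (_ : Algebra k L) (_ : Module.Finite k L) (c : A ⊗[k] L),
      Algebra.TensorProduct.map (Bialgebra.comulAlgHom k A) (AlgHom.id k L) c =
        Algebra.TensorProduct.map (Algebra.TensorProduct.includeLeft : A →ₐ[k] A ⊗[k] A) (AlgHom.id k L) c *
          Algebra.TensorProduct.map (Algebra.TensorProduct.includeRight : A →ₐ[k] A ⊗[k] A) (AlgHom.id k L) c ∧
      Algebra.TensorProduct.map (Bialgebra.counitAlgHom k A) (AlgHom.id k L) c = 1 ∧
      Algebra.TensorProduct.map (f : A →ₐ[k] B) (AlgHom.id k L) c = b ⊗ₜ 1 := by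
  classical
  obtain ⟨a, ha⟩ := hf b
  obtain ⟨C, hCf, haC, hC⟩ := exists_finite_subcoalg (k := k) a
  haveI := hCf
  -- the dual algebras
  let N : Ideal (WithConv (A →ₗ[k] k)) :=
    { carrier := {φ | ∀ x ∈ C, φ.ofConv x = 0}
      add_mem' := fun {p q} hp hq x hx => by simp [hp x hx, hq x hx]
      zero_mem' := fun x _ => rfl
      smul_mem' := fun φ ψ hψ x hx => by
        obtain ⟨z, hz⟩ := hC x hx
        show (φ * ψ).ofConv x = 0
        rw [LinearMap.convMul_apply, ← hz]
        clear hz
        induction z using TensorProduct.induction_on with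
        | zero => simp
        | tmul p q => simp [hψ q q.2]
        | add p q hp hq => simp only [map_add, hp, hq, add_zero] }
  let R := WithConv (A →ₗ[k] k) ⧸ N
  let fs : WithConv (B →ₗ[k] k) →ₐ[k] WithConv (A →ₗ[k] k) :=
    AlgHom.ofLinearMap
      { toFun := fun ψ => toConv (ψ.ofConv ∘ₗ (f : A →ₐ[k] B).toLinearMap)
        map_add' := fun ψ ψ' => by simp [LinearMap.add_comp]
        map_smul' := fun r ψ => by simp [LinearMap.smul_comp] }
      (by
        apply WithConv.ofConv_injective
        ext x
        simp)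
      (fun ψ ψ' => WithConv.ofConv_injective
        (LinearMap.convMul_comp_coalgHom_distrib ψ ψ' (f : A →ₗc[k] B)))
  haveI hRfin : Module.Finite k R := by
    let res : WithConv (A →ₗ[k] k) →ₗ[k] (C →ₗ[k] k) :=
      { toFun := fun φ => φ.ofConv ∘ₗ C.subtype
        map_add' := fun φ ψ => by simp [LinearMap.add_comp]
        map_smul' := fun r ψ => by simp [LinearMap.smul_comp] }
    have hres : LinearMap.ker res = Submodule.restrictScalars k N := by
      ext φ
      exact ⟨fun h x hx => LinearMap.congr_fun h ⟨x, hx⟩, fun h => LinearMap.ext fun x => h x x.2⟩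
    let e : R →ₗ[k] (C →ₗ[k] k) :=
      (Submodule.liftQ (Submodule.restrictScalars k N) res hres.ge) ∘ₗ
        (Submodule.Quotient.restrictScalarsEquiv k N).symm.toLinearMap
    refine Module.Finite.of_injective e ?_
    exact (LinearMap.ker_eq_bot.1 (Submodule.ker_liftQ_eq_bot _ _ hres.ge hres.le)).comp
      (Submodule.Quotient.restrictScalarsEquiv k N).symm.injective
  letI : @Algebra (WithConv (B →ₗ[k] k)) R _ CommSemiring.toSemiring :=
    RingHom.toAlgebra ((Ideal.Quotient.mk N).comp (fs : WithConv (B →ₗ[k] k) →+* WithConv (A →ₗ[k] k)))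
  haveI : IsScalarTower k (WithConv (B →ₗ[k] k)) R :=
    IsScalarTower.of_algebraMap_eq fun r => (((Ideal.Quotient.mkₐ k N).comp fs).commutes r).symm
  haveI : Algebra.IsIntegral (WithConv (B →ₗ[k] k)) R :=
    ⟨fun r => IsIntegral.tower_top (Algebra.IsIntegral.isIntegral (R := k) r)⟩
  -- the character of the dual of `B` given by `b`
  let χ : WithConv (B →ₗ[k] k) →ₐ[k] k :=
    AlgHom.ofLinearMap
      { toFun := fun ψ => ψ.ofConv b
        map_add' := fun ψ ψ' => by simp
        map_smul' := fun r ψ => by simp }
      (by simp [hb.counit_eq_one])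
      (fun ψ ψ' => by simp [LinearMap.convMul_apply, hb.comul_eq_tmul_self])
  haveI hP : (RingHom.ker χ).IsMaximal :=
    RingHom.ker_isMaximal_of_surjective χ fun r => ⟨algebraMap k _ r, χ.commutes r⟩
  obtain ⟨M, hM, hMP⟩ := Ideal.exists_ideal_over_maximal_of_isIntegral (S := R) (RingHom.ker χ)
    (fun ψ hψ => by
      have h : fs ψ ∈ N := Ideal.Quotient.eq_zero_iff_mem.1 hψ
      show ψ.ofConv b = 0
      rw [← ha]
      exact h a haC)
  letI := Ideal.Quotient.field M
  let L := R ⧸ M
  haveI : Module.Finite k L := Module.Finite.of_surjective (Ideal.Quotient.mkₐ k M).toLinearMap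
    Ideal.Quotient.mk_surjective
  let Λ : WithConv (A →ₗ[k] k) →ₐ[k] L := (Ideal.Quotient.mkₐ k M).comp (Ideal.Quotient.mkₐ k N)
  have hΛN : ∀ φ : A →ₗ[k] k, (∀ x ∈ C, φ x = 0) → Λ (toConv φ) = 0 := fun φ hφ => by
    have : Ideal.Quotient.mkₐ k N (toConv φ) = 0 := Ideal.Quotient.eq_zero_iff_mem.2 hφ
    show Ideal.Quotient.mkₐ k M (Ideal.Quotient.mkₐ k N (toConv φ)) = 0
    rw [this, map_zero]
  have hΛB : ∀ ψ : B →ₗ[k] k,
      Λ (toConv (ψ ∘ₗ (f : A →ₐ[k] B).toLinearMap)) = algebraMap k L (ψ b) := fun ψ => by
    have h1 : toConv ψ - algebraMap k _ (ψ b) ∈ RingHom.ker χ := by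
      rw [RingHom.mem_ker, map_sub, AlgHom.commutes]
      exact sub_self _
    rw [← hMP, Ideal.mem_comap, map_sub] at h1
    have h2 := (Ideal.Quotient.eq (I := M)).2 h1
    exact h2.trans (congrArg _ (((Ideal.Quotient.mkₐ k N).comp fs).commutes (ψ b))) |>.trans
      ((Ideal.Quotient.mkₐ k M).commutes (ψ b))
  -- the element
  let e := Module.finBasis k C
  choose φs hφs using fun i => LinearMap.exists_extend (e.coord i)
  let c : A ⊗[k] L := ∑ i, (e i : A) ⊗ₜ[k] Λ (toConv (φs i))
  have hc : ∀ φ : A →ₗ[k] k, ev φ c = Λ (toConv φ) := fun φ => by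
    have hsum : ev φ c = Λ (toConv (∑ i, φ (e i : A) • φs i)) := by
      rw [show toConv (∑ i, φ (e i : A) • φs i) = ∑ i, φ (e i : A) • toConv (φs i) by
        apply WithConv.ofConv_injective; simp, map_sum]
      simp only [c, map_sum, map_smul, ev_tmul]
    rw [hsum, ← sub_eq_zero, ← map_sub, ← WithConv.toConv_sub]
    refine hΛN _ fun x hx => ?_
    rw [LinearMap.sub_apply, sub_eq_zero, LinearMap.sum_apply]
    have hx' : x = ∑ i, e.repr ⟨x, hx⟩ i • (e i : A) := by
      have h := congrArg (fun z : C => (z : A)) (e.sum_repr ⟨x, hx⟩)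
      simp only [Submodule.coe_sum, Submodule.coe_smul] at h
      exact h.symm
    conv_rhs => rw [hx', map_sum]
    refine Finset.sum_congr rfl fun i _ => ?_
    have h := LinearMap.congr_fun (hφs i) ⟨x, hx⟩
    simp only [LinearMap.comp_apply, Submodule.subtype_apply, Module.Basis.coord_apply] at h
    rw [LinearMap.smul_apply, h, map_smul, smul_eq_mul, smul_eq_mul, mul_comm]
  refine ⟨L, inferInstance, inferInstance, inferInstance, c, ?_, ?_, ?_⟩
  · let bA := Module.Free.chooseBasis k A
    refine ext_ev (bA.tensorProduct bA) fun ⟨i, j⟩ => ?_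
    have hco : (bA.tensorProduct bA).coord (i, j) =
        LinearMap.mul' k k ∘ₗ TensorProduct.map (bA.coord i) (bA.coord j) := by
      ext x y
      simp [Module.Basis.tensorProduct_repr_tmul_apply, mul_comm]
    rw [hco, ev_map_comul, ev_mul_incl, hc, hc, hc, ← map_mul]
  · apply (Algebra.TensorProduct.lid k L).injective
    rw [map_one]
    refine Eq.trans ?_ ((hc (Coalgebra.counit (R := k))).trans ?_)
    · generalize c = w
      induction w using TensorProduct.induction_on with
      | zero => simp
      | tmul m l => simp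
      | add p q hp hq => simp only [map_add, hp, hq]
    · refine Eq.trans (congrArg Λ ?_) (map_one Λ)
      apply WithConv.ofConv_injective
      ext x
      simp
  · refine ext_ev (Module.Free.chooseBasis k B) fun i => ?_
    generalize (Module.Free.chooseBasis k B).coord i = ψ
    have : ∀ w : A ⊗[k] L, ev ψ (Algebra.TensorProduct.map (f : A →ₐ[k] B) (AlgHom.id k L) w) =
        ev (ψ ∘ₗ (f : A →ₐ[k] B).toLinearMap) w := fun w => by
      induction w using TensorProduct.induction_on with
      | zero => simp
      | tmul m l => simp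
      | add p q hp hq => simp only [map_add, hp, hq]
    rw [this, hc, hΛB, ev_tmul, Algebra.algebraMap_eq_smul_one]

/-- Over an algebraically closed field group-like elements lift. -/
theorem exists_lift_isAlgClosed [IsAlgClosed k] {A B : Type u} [CommRing A] [CommRing B] [Bialgebra k A]
    [Bialgebra k B] [Coalgebra.IsCocomm k A] [Coalgebra.IsCocomm k B] (f : A →ₐc[k] B)
    (hf : Function.Surjective f) {b : B} (hb : IsGroupLikeElem k b) :
    ∃ a : A, IsGroupLikeElem k a ∧ f a = b := by
  obtain ⟨L, _, _, _, c, h1, h2, h3⟩ := exists_lift_ext f hf hb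
  haveI : Algebra.IsIntegral k L := Algebra.IsIntegral.of_finite k L
  let σ : L →ₐ[k] k := (AlgEquiv.ofBijective (Algebra.ofId k L)
    (IsAlgClosed.algebraMap_bijective_of_isIntegral (k := k) (K := L))).symm.toAlgHom
  have key : ∀ {M N : Type u} [CommRing M] [CommRing N] [Algebra k M] [Algebra k N] (g : M →ₐ[k] N)
      (w : M ⊗[k] L),
      (Algebra.TensorProduct.rid k k N).toAlgHom.comp (Algebra.TensorProduct.map (AlgHom.id k N) σ)
          (Algebra.TensorProduct.map g (AlgHom.id k L) w) =
        g ((Algebra.TensorProduct.rid k k M).toAlgHom.comp (Algebra.TensorProduct.map (AlgHom.id k M) σ) w) := by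
    intro M N _ _ _ _ g w
    induction w using TensorProduct.induction_on with
    | zero => simp
    | tmul m l => simp
    | add p q hp hq => simp only [map_add, hp, hq]
  refine ⟨(Algebra.TensorProduct.rid k k A).toAlgHom.comp
    (Algebra.TensorProduct.map (AlgHom.id k A) σ) c, ⟨?_, ?_⟩, ?_⟩
  · have h := key (Bialgebra.counitAlgHom k A) c
    rw [h2, map_one] at h
    exact h.symm
  · have h := key (Bialgebra.comulAlgHom k A) c
    rw [h1, map_mul, key, key] at h
    refine h.symm.trans ?_
    simp
  · have h := key (f : A →ₐ[k] B) c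
    rw [h3] at h
    refine h.symm.trans ?_
    simp

theorem norm_map_tensor {L : Type u} [Field L] [Algebra k L] [Module.Finite k L] {M N : Type u}
    [CommRing M] [CommRing N] [Algebra k M] [Algebra k N] (g : M →ₐ[k] N) (x : M ⊗[k] L) :
    g (Algebra.norm M x) = Algebra.norm N (Algebra.TensorProduct.map g (AlgHom.id k L) x) := by
  classical
  let e := Module.finBasis k L
  rw [Algebra.norm_eq_matrix_det (Algebra.TensorProduct.basis M e),
    Algebra.norm_eq_matrix_det (Algebra.TensorProduct.basis N e)]
  refine ((g : M →+* N).map_det _).trans (congrArg Matrix.det ?_)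
  have hrepr : ∀ (z : M ⊗[k] L) i, g ((Algebra.TensorProduct.basis M e).repr z i) =
      (Algebra.TensorProduct.basis N e).repr (Algebra.TensorProduct.map g (AlgHom.id k L) z) i := by
    intro z i
    induction z using TensorProduct.induction_on with
    | zero => simp
    | tmul m l => simp [Algebra.TensorProduct.basis_repr_tmul]
    | add p q hp hq => simp only [map_add, Finsupp.add_apply, hp, hq]
  ext i j
  simp only [RingHom.mapMatrix_apply, Matrix.map_apply, Algebra.leftMulMatrix_eq_repr_mul]
  refine (hrepr _ i).trans ?_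
  rw [map_mul]
  simp [Algebra.TensorProduct.basis_apply]

/-- A positive power of a group-like element of a quotient lifts. -/
theorem exists_pow_lift {A B : Type u} [CommRing A] [CommRing B] [Bialgebra k A] [Bialgebra k B]
    [Coalgebra.IsCocomm k A] [Coalgebra.IsCocomm k B] (f : A →ₐc[k] B) (hf : Function.Surjective f)
    {b : B} (hb : IsGroupLikeElem k b) :
    ∃ (n : ℕ) (a : A), 0 < n ∧ IsGroupLikeElem k a ∧ f a = b ^ n := by
  obtain ⟨L, _, _, _, c, h1, h2, h3⟩ := exists_lift_ext f hf hb
  refine ⟨Module.finrank k L, Algebra.norm A c, Module.finrank_pos, ⟨?_, ?_⟩, ?_⟩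
  · show Bialgebra.counitAlgHom k A (Algebra.norm A c) = 1
    rw [norm_map_tensor, h2, map_one]
  · show Bialgebra.comulAlgHom k A (Algebra.norm A c) = _
    rw [norm_map_tensor, h1, map_mul, ← norm_map_tensor, ← norm_map_tensor]
    simp
  · show (f : A →ₐ[k] B) (Algebra.norm A c) = _
    rw [norm_map_tensor, h3, show b ⊗ₜ[k] (1 : L) = algebraMap B (B ⊗[k] L) b from rfl,
      Algebra.norm_algebraMap_of_basis (Algebra.TensorProduct.basis B (Module.finBasis k L)),
      Fintype.card_fin]

end Groth.Agent.CharExtLib
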